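import Cfsg.Agent.H597.HT12.Five

/-!
# S3540: non-abelian groups of order 27
-/

set_option autoImplicit false

namespace Cfsg.Agent.H597.HT6

/-- in a non-abelian group of order 27 every `x` of order 3 is `w` or `z` for a triple `w`, `z`, `y` with
`w ^ 3 = z ^ 3 = 1`, `z` commuting with `w` and `y`, `y w y⁻¹ = w z`, `z ≠ 1` -/
theorem exists_triple {P : Type*} [Group P] (hc : Nat.card P = 27) (hn : ∃ a b : P, a * b ≠ b * a) {x : P}
    (hx : x ^ 3 = 1) (hx1 : x ≠ 1) :
    ∃ w z y : P, w ^ 3 = 1 ∧ z ^ 3 = 1 ∧ z ≠ 1 ∧ w * z = z * w ∧ y * z = z * y ∧ y * w = w * z * y ∧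
      (x = w ∨ x = z) := by
  have h3 : Fact (Nat.Prime 3) := ⟨by norm_num⟩
  have hfin : Finite P := Nat.finite_of_card_ne_zero (by rw [hc]; norm_num)
  have hP : IsPGroup 3 P := IsPGroup.of_card (n := 3) (by rw [hc]; norm_num)
  have hnt : Nontrivial P := ⟨x, 1, hx1⟩
  have hcn : Nontrivial (Subgroup.center P) := hP.center_nontrivial
  -- the centre has order 3
  have hcc : Nat.card (Subgroup.center P) = 3 := by
    have hd : Nat.card (Subgroup.center P) ∣ 3 ^ 3 := by
      have := Subgroup.card_subgroup_dvd_card (Subgroup.center P)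
      rwa [hc] at this
    obtain ⟨k, hk, hk'⟩ := (Nat.dvd_prime_pow (by norm_num : Nat.Prime 3)).1 hd
    have h1 : 1 < Nat.card (Subgroup.center P) := Finite.one_lt_card
    have hidx : Nat.card (P ⧸ Subgroup.center P) * Nat.card (Subgroup.center P) = 27 := by
      rw [← hc, Subgroup.card_eq_card_quotient_mul_card_subgroup (Subgroup.center P)]
    rw [hk'] at h1 hidx ⊢
    have hk4 : k = 0 ∨ k = 1 ∨ k = 2 ∨ k = 3 := by omega
    have hnc : ¬ IsCyclic (P ⧸ Subgroup.center P) := by
      intro hcyc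
      obtain ⟨a, b, hab⟩ := hn
      have := commutative_of_cyclic_center_quotient (QuotientGroup.mk' (Subgroup.center P))
        (by rw [QuotientGroup.ker_mk']) a b
      exact hab this
    rcases hk4 with rfl | rfl | rfl | rfl
    · norm_num at h1
    · norm_num
    · exfalso
      apply hnc
      have h9 : Nat.card (P ⧸ Subgroup.center P) = 3 := by omega
      exact isCyclic_of_prime_card h9
    · exfalso
      apply hnc
      have h9 : Nat.card (P ⧸ Subgroup.center P) = 1 := by omega
      have : Subsingleton (P ⧸ Subgroup.center P) := (Nat.card_eq_one_iff_unique.1 h9).1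
      infer_instance
  have hq9 : Nat.card (P ⧸ Subgroup.center P) = 3 ^ 2 := by
    have hidx : Nat.card (P ⧸ Subgroup.center P) * Nat.card (Subgroup.center P) = 27 := by
      rw [← hc, Subgroup.card_eq_card_quotient_mul_card_subgroup (Subgroup.center P)]
    rw [hcc] at hidx
    omega
  -- commutators are central
  have hcomm : ∀ a b : P, a * b * a⁻¹ * b⁻¹ ∈ Subgroup.center P := by
    intro a b
    rw [← QuotientGroup.eq_one_iff]
    have h1 := IsPGroup.commutative_of_card_eq_prime_sq hq9 (a : P ⧸ Subgroup.center P) (b : P ⧸ Subgroup.center P)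
    rw [QuotientGroup.mk_mul, QuotientGroup.mk_mul, QuotientGroup.mk_mul, QuotientGroup.mk_inv,
      QuotientGroup.mk_inv, h1]
    group
  have hz3 : ∀ z ∈ Subgroup.center P, z ^ 3 = 1 := by
    intro z hz
    have := pow_card_eq_one' (x := (⟨z, hz⟩ : Subgroup.center P))
    rw [hcc] at this
    exact congrArg Subtype.val this
  by_cases hxc : x ∈ Subgroup.center P
  · -- `x = z`
    have hncyc : ¬ IsCyclic P := by
      intro hcyc
      obtain ⟨a, b, hab⟩ := hn
      obtain ⟨g, hg⟩ := hcyc.exists_generator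
      obtain ⟨m, rfl⟩ := hg a
      obtain ⟨n, rfl⟩ := hg b
      exact hab ((Commute.refl g).zpow_zpow m n)
    obtain ⟨a, b, hab, ha, hb, ha1, hba⟩ := HT12.exists_pair (by norm_num) hP hncyc
    -- one of them is not central
    have hw : ∃ w : P, w ^ 3 = 1 ∧ w ∉ Subgroup.center P := by
      by_contra hcon
      push Not at hcon
      have h1 := hcon a ha
      have h2 := hcon b hb
      have hcyc : IsCyclic (Subgroup.center P) := isCyclic_of_prime_card hcc
      have h4 : (⟨b, h2⟩ : Subgroup.center P) ∈ Subgroup.zpowers (⟨a, h1⟩ : Subgroup.center P) :=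
        HT12.mem_zpowers_of_cyclic (r := 3) (Subtype.ext ha) (fun h0 => ha1 (congrArg Subtype.val h0))
          (Subtype.ext hb)
      obtain ⟨n, hn⟩ := h4
      exact hba ⟨n, congrArg Subtype.val hn⟩
    obtain ⟨w, hw3, hwc⟩ := hw
    obtain ⟨y, hy⟩ : ∃ y : P, y * w ≠ w * y := by
      by_contra hcon
      push Not at hcon
      exact hwc (Subgroup.mem_center_iff.2 fun g => hcon g)
    have hk := hcomm y w
    set z0 := y * w * y⁻¹ * w⁻¹ with hz0
    have hz01 : z0 ≠ 1 := by
      intro h0
      apply hy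
      rw [hz0] at h0
      have := mul_inv_eq_one.1 h0
      rw [mul_inv_eq_iff_eq_mul] at this
      exact this
    -- `z0 ∈ ⟨x⟩`, so `z0 = x` or `x⁻¹`
    have hcyc : IsCyclic (Subgroup.center P) := isCyclic_of_prime_card hcc
    have h4 : (⟨z0, hk⟩ : Subgroup.center P) ∈ Subgroup.zpowers (⟨x, hxc⟩ : Subgroup.center P) :=
      HT12.mem_zpowers_of_cyclic (r := 3) (Subtype.ext hx) (fun h0 => hx1 (congrArg Subtype.val h0))
        (Subtype.ext (hz3 _ hk))
    obtain ⟨m, hm⟩ := h4
    have hm' : x ^ m = z0 := congrArg Subtype.val hm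
    have hxm : x ^ m = 1 ∨ x ^ m = x ∨ x ^ m = x⁻¹ := by
      have e1 : x ^ m = x ^ (m % 3) := by
        conv_lhs => rw [← Int.emod_add_mul_ediv m 3, zpow_add, zpow_mul]
        have : x ^ (3 : ℤ) = 1 := by exact_mod_cast hx
        rw [this, one_zpow, mul_one]
      have h5 : m % 3 = 0 ∨ m % 3 = 1 ∨ m % 3 = 2 := by omega
      rw [e1]
      rcases h5 with h | h | h <;> rw [h]
      · left; simp
      · right; left; simp
      · right; right
        rw [eq_inv_iff_mul_eq_one]
        have : x ^ (2 : ℤ) * x = x ^ 3 := by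
          rw [← zpow_natCast x 3, ← zpow_add_one]; norm_num
        rw [this, hx]
    have hxcm : ∀ g : P, g * x = x * g := fun g => Subgroup.mem_center_iff.1 hxc g
    rcases hxm with h | h | h
    · exact absurd (hm'.symm.trans h) hz01
    · rw [h] at hm'
      refine ⟨w, x, y, hw3, hx, hx1, hxcm w, hxcm y, ?_, Or.inr rfl⟩
      rw [hxcm w, hm', hz0]
      group
    · rw [h] at hm'
      refine ⟨w, x, y⁻¹, hw3, hx, hx1, hxcm w, hxcm y⁻¹, ?_, Or.inr rfl⟩
      -- `y w = x⁻¹ w y`
      have h6 : y * w = x⁻¹ * (w * y) := by rw [hm', hz0]; group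
      have h7 : y * (w * x) = w * y := by
        rw [← mul_assoc, h6, mul_assoc, hxcm, ← mul_assoc, inv_mul_cancel, one_mul]
      calc y⁻¹ * w = y⁻¹ * (w * y) * y⁻¹ := by group
        _ = y⁻¹ * (y * (w * x)) * y⁻¹ := by rw [h7]
        _ = w * x * y⁻¹ := by group
  · obtain ⟨y, hy⟩ : ∃ y : P, y * x ≠ x * y := by
      by_contra hcon
      push Not at hcon
      exact hxc (Subgroup.mem_center_iff.2 fun g => hcon g)
    have hk := hcomm y x
    have hkc := Subgroup.mem_center_iff.1 hk
    refine ⟨x, y * x * y⁻¹ * x⁻¹, y, hx, hz3 _ hk, ?_, hkc x, hkc y, ?_, Or.inl rfl⟩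
    · intro h0
      apply hy
      have := mul_inv_eq_one.1 h0
      rw [mul_inv_eq_iff_eq_mul] at this
      exact this
    · rw [hkc x]
      group

end Cfsg.Agent.H597.HT6
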