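import Mathlib

/-!
# S3540: the linear part of the row `U3(3)`, degree 6

`w`, `z`, `y` linear automorphisms of `V` over `K`, `w ^ 3 = z ^ 3 = 1`, `z` commutes with `w` and `y`, `y w y⁻¹ = w z`,
`z ≠ 1`, `dim V = 6`, `|K| % 3 = 2`: then `z` has no non-zero fixed vector and `w` fixes exactly `|K| ^ 2` vectors.
-/

set_option autoImplicit false
set_option linter.unusedSectionVars false

universe u w

namespace Cfsg.Agent.H597.HT6

variable {K : Type w} [Field K] [Finite K] {V : Type u} [AddCommGroup V] [Module K V] [Finite V]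

section

variable {w z y : V ≃ₗ[K] V}

/-- `ker (1 + z + z ^ 2) ∩ ker (g - 1)` -/
def AA (z g : V ≃ₗ[K] V) : Submodule K V where
  carrier := {v | v + z v + z (z v) = 0 ∧ g v = v}
  zero_mem' := by simp
  add_mem' := by
    rintro a b ⟨h1, h2⟩ ⟨h3, h4⟩
    refine ⟨?_, by rw [map_add, h2, h4]⟩
    rw [map_add, map_add]
    calc a + b + (z a + z b) + (z (z a) + z (z b)) = (a + z a + z (z a)) + (b + z b + z (z b)) := by abel
      _ = 0 := by rw [h1, h3, add_zero]
  smul_mem' := by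
    rintro c a ⟨h1, h2⟩
    refine ⟨?_, by rw [map_smul, h2]⟩
    rw [map_smul, map_smul, ← smul_add, ← smul_add, h1, smul_zero]

theorem mem_AA {g : V ≃ₗ[K] V} {v : V} : v ∈ AA z g ↔ v + z v + z (z v) = 0 ∧ g v = v := Iff.rfl

/-- `ker (1 + z + z ^ 2)` -/
def WW (z : V ≃ₗ[K] V) : Submodule K V := AA z 1

theorem mem_WW {v : V} : v ∈ WW z ↔ v + z v + z (z v) = 0 := by
  rw [WW, mem_AA]
  exact ⟨fun h => h.1, fun h => ⟨h, rfl⟩⟩

theorem eq_zero_of_three (h3 : (3 : K) ≠ 0) {v : V} (h : v + v + v = 0) : v = 0 := by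
  have h4 : (3 : K) • v = 0 := by
    rw [← h, show (3 : K) = 1 + 1 + 1 by norm_num, add_smul, add_smul, one_smul]
  rcases smul_eq_zero.1 h4 with h | h
  · exact absurd h h3
  · exact h

/-- a fixed vector of `z` in `WW z` is zero -/
theorem eq_zero_of_fixed (h3 : (3 : K) ≠ 0) {v : V} (h1 : v + z v + z (z v) = 0) (h2 : z v = v) : v = 0 := by
  rw [h2, h2] at h1
  exact eq_zero_of_three h3 h1

/-- `y` maps `AA z g` onto `AA z (y g y⁻¹)` -/
theorem card_AA_conj {g g' : V ≃ₗ[K] V} (hyz : ∀ v, y (z v) = z (y v)) (hg : ∀ v, y (g v) = g' (y v)) :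
    Nat.card (AA z g) = Nat.card (AA z g') := by
  refine Nat.card_congr (Equiv.subtypeEquiv y.toEquiv ?_)
  intro v
  change v ∈ AA z g ↔ y v ∈ AA z g'
  rw [mem_AA, mem_AA, ← hg]
  have e : y v + z (y v) + z (z (y v)) = y (v + z v + z (z v)) := by
    rw [map_add, map_add, hyz, hyz, hyz]
  rw [e]
  constructor
  · rintro ⟨h1, h2⟩
    exact ⟨by rw [h1, map_zero], by rw [h2]⟩
  · rintro ⟨h1, h2⟩
    exact ⟨(y.map_eq_zero_iff).1 h1, y.injective h2⟩

/-- **decomposition** `WW z = A₀ ⊕ A₁ ⊕ A₂` -/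
theorem card_WW (h3 : (3 : K) ≠ 0) (hw3 : ∀ v, w (w (w v)) = v) (hz3 : ∀ v, z (z (z v)) = v)
    (hwz : ∀ v, w (z v) = z (w v)) (hyz : ∀ v, y (z v) = z (y v)) (hy : ∀ v, y (w v) = w (z (y v))) :
    Nat.card (WW z) = Nat.card (AA z w) ^ 3 := by
  -- `w₁ = w z`, `w₂ = w z ^ 2`
  set w1 : V ≃ₗ[K] V := z.trans w with hw1
  set w2 : V ≃ₗ[K] V := z.trans w1 with hw2
  have hw1v : ∀ v, w1 v = w (z v) := fun v => rfl
  have hw2v : ∀ v, w2 v = w (z (z v)) := fun v => rfl
  have e1 : Nat.card (AA z w) = Nat.card (AA z w1) := card_AA_conj hyz (fun v => hy v)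
  have e2 : Nat.card (AA z w1) = Nat.card (AA z w2) := card_AA_conj hyz (fun v => by
    rw [hw1v, hw2v, hy, hyz])
  rw [pow_succ, pow_two]
  conv_rhs => rw [show Nat.card (AA z w) * Nat.card (AA z w) * Nat.card (AA z w) =
    Nat.card (AA z w) * Nat.card (AA z w1) * Nat.card (AA z w2) by rw [← e2, ← e1]]
  rw [← Nat.card_prod, ← Nat.card_prod]
  symm
  have hmem : ∀ x : (AA z w × AA z w1) × AA z w2, x.1.1.1 + x.1.2.1 + x.2.1 ∈ WW z := by
    rintro ⟨⟨⟨a, ha, -⟩, ⟨b, hb, -⟩⟩, ⟨c, hc, -⟩⟩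
    rw [mem_WW]
    simp only
    rw [map_add, map_add, map_add, map_add]
    calc _ = (a + z a + z (z a)) + (b + z b + z (z b)) + (c + z c + z (z c)) := by abel
      _ = 0 := by rw [ha, hb, hc]; simp
  -- independence
  have key : ∀ a b c : V, a ∈ AA z w → b ∈ AA z w1 → c ∈ AA z w2 → a + b + c = 0 → a = 0 ∧ b = 0 ∧ c = 0 := by
    rintro a b c ⟨ha, haw⟩ ⟨hb, hbw⟩ ⟨hc, hcw⟩ hs
    rw [hw1v] at hbw
    rw [hw2v] at hcw
    -- `w b = z² b`, `w c = z c`
    have hb2 : w b = z (z b) := by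
      have h1 : w (z (z (z b))) = z (z (w (z b))) := by rw [hwz, hwz]
      rw [hz3, hbw] at h1
      exact h1
    have hc2 : w c = z c := by
      have h1 : w (z (z (z c))) = z (w (z (z c))) := hwz _
      rw [hz3, hcw] at h1
      exact h1
    have h1 : a + z (z b) + z c = 0 := by
      have := congrArg w hs
      rw [map_add, map_add, map_zero, haw, hb2, hc2] at this
      exact this
    have h2 : a + z b + z (z c) = 0 := by
      have := congrArg w h1
      rw [map_add, map_add, map_zero, haw, hwz, hwz, hb2, hwz, hc2, hz3] at this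
      exact this
    have ha0 : a = 0 := by
      refine eq_zero_of_three h3 ?_
      have e : (a + b + c) + (a + z (z b) + z c) + (a + z b + z (z c)) =
          (a + a + a) + (b + z b + z (z b)) + (c + z c + z (z c)) := by abel
      rw [hs, h1, h2, hb, hc] at e
      simpa using e.symm
    rw [ha0, zero_add] at hs h2
    have hc0 : c = -b := eq_neg_of_add_eq_zero_right hs
    rw [hc0, map_neg, map_neg] at h2
    have hzb : z b = b := (z.injective (sub_eq_zero.1 (by rw [← h2]; abel))).symm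
    have hb0 := eq_zero_of_fixed h3 hb hzb
    exact ⟨ha0, hb0, by rw [hc0, hb0, neg_zero]⟩
  refine Nat.card_congr (Equiv.ofBijective
    (fun x : (AA z w × AA z w1) × AA z w2 => (⟨x.1.1.1 + x.1.2.1 + x.2.1, hmem x⟩ : WW z)) ⟨?_, ?_⟩)
  · rintro ⟨⟨a, b⟩, c⟩ ⟨⟨a', b'⟩, c'⟩ hx
    have h1 : (a : V) + b + c = a' + b' + c' := congrArg Subtype.val hx
    obtain ⟨ha, hb, hc⟩ := key (a - a' : AA z w) (b - b' : AA z w1) (c - c' : AA z w2) (a - a').2 (b - b').2
      (c - c').2 (by
        push_cast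
        have : (a : V) - a' + (b - b') + (c - c') = (a + b + c) - (a' + b' + c') := by abel
        rw [this, h1, sub_self])
    have ha' : a = a' := sub_eq_zero.1 (Subtype.ext ha)
    have hb' : b = b' := sub_eq_zero.1 (Subtype.ext hb)
    have hc' : c = c' := sub_eq_zero.1 (Subtype.ext hc)
    rw [ha', hb', hc']
  · rintro ⟨v, hv⟩
    rw [mem_WW] at hv
    -- the three averages
    have hzv : ∀ u : V, u + z u + z (z u) = 0 → ∀ g : V ≃ₗ[K] V, (∀ x, g (z x) = z (g x)) → g u + z (g u) + z (z (g u)) = 0 := by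
      intro u hu g hg
      rw [← hg, ← hg, ← map_add, ← map_add, hu, map_zero]
    have hN : ∀ g : V ≃ₗ[K] V, (∀ x, g (z x) = z (g x)) → (∀ x, g (g (g x)) = x) → ∀ u : V, u + z u + z (z u) = 0 →
        u + g u + g (g u) ∈ AA z g := by
      intro g hg hg3 u hu
      refine ⟨?_, ?_⟩
      · have h1 := hzv u hu g hg
        have h2 := hzv (g u) h1 g hg
        rw [map_add, map_add, map_add, map_add]
        calc _ = (u + z u + z (z u)) + (g u + z (g u) + z (z (g u))) + (g (g u) + z (g (g u)) + z (z (g (g u)))) := by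
              abel
          _ = 0 := by rw [hu, h1, h2]; simp
      · rw [map_add, map_add, hg3]; abel
    set u : V := (3 : K)⁻¹ • v with hu
    have hu0 : u + z u + z (z u) = 0 := by
      rw [hu, map_smul, map_smul, ← smul_add, ← smul_add, hv, smul_zero]
    have h10 : ∀ x, w1 (z x) = z (w1 x) := fun x => by rw [hw1v, hw1v, hwz]
    have h20 : ∀ x, w2 (z x) = z (w2 x) := fun x => by rw [hw2v, hw2v, hwz]
    have hzw : ∀ x, z (w x) = w (z x) := fun x => (hwz x).symm
    have h13 : ∀ x, w1 (w1 (w1 x)) = x := fun x => by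
      simp only [hw1v, hzw, hw3, hz3]
    have h23 : ∀ x, w2 (w2 (w2 x)) = x := fun x => by
      simp only [hw2v, hzw, hw3, hz3]
    refine ⟨⟨⟨⟨_, hN w hwz hw3 u hu0⟩, ⟨_, hN w1 h10 h13 u hu0⟩⟩, ⟨_, hN w2 h20 h23 u hu0⟩⟩, Subtype.ext ?_⟩
    change u + w u + w (w u) + (u + w1 u + w1 (w1 u)) + (u + w2 u + w2 (w2 u)) = v
    simp only [hw1v, hw2v, hzw, hz3]
    have hwu : w u + w (z u) + w (z (z u)) = 0 := by rw [← map_add, ← map_add, hu0, map_zero]
    have hwwu : w (w u) + w (w (z u)) + w (w (z (z u))) = 0 := by rw [← map_add, ← map_add, hwu, map_zero]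
    have h3u : u + u + u = v := by
      have : u + u + u = (3 : K) • u := by
        rw [show (3 : K) = 1 + 1 + 1 by norm_num, add_smul, add_smul, one_smul]
      rw [this, hu, smul_smul, mul_inv_cancel₀ h3, one_smul]
    calc _ = (u + u + u) + (w u + w (z u) + w (z (z u))) + (w (w u) + w (w (z u)) + w (w (z (z u)))) := by abel
      _ = v := by rw [h3u, hwu, hwwu, add_zero, add_zero]

/-- `3 ∣ |A| - 1` for a `z`-invariant subspace on which `z` has no fixed vector, `z ^ 3 = 1` -/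
theorem three_dvd (A : Submodule K V) (hz3 : ∀ v, z (z (z v)) = v) (hA : ∀ v ∈ A, z v ∈ A)
    (hf : ∀ v ∈ A, z v = v → v = 0) : 3 ∣ Nat.card A - 1 := by
  classical
  have : Fact (Nat.Prime 3) := ⟨by norm_num⟩
  -- `ZMod 3` acts
  let e : Equiv.Perm A :=
    { toFun := fun v => ⟨z v, hA v v.2⟩
      invFun := fun v => ⟨z (z v), hA _ (hA v v.2)⟩
      left_inv := fun v => Subtype.ext (hz3 v)
      right_inv := fun v => Subtype.ext (hz3 v) }
  have he3 : e ^ 3 = 1 := by
    ext v
    exact hz3 v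
  have hP : IsPGroup 3 (Subgroup.zpowers e) := by
    rintro ⟨_, n, rfl⟩
    refine ⟨1, Subtype.ext ?_⟩
    change (e ^ n) ^ 3 ^ 1 = 1
    rw [pow_one, ← zpow_natCast, zpow_comm, zpow_natCast, he3, one_zpow]
  have h1 := hP.card_modEq_card_fixedPoints A
  have h2 : Nat.card (MulAction.fixedPoints (Subgroup.zpowers e) A) = 1 := by
    rw [Nat.card_eq_one_iff_exists]
    refine ⟨⟨0, ?_⟩, ?_⟩
    · rintro ⟨_, n, rfl⟩
      have h0 : ∀ n : ℤ, (e ^ n) (0 : A) = 0 := by
        intro n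
        have h0 : e 0 = 0 := Subtype.ext (map_zero z)
        exact Equiv.Perm.zpow_apply_eq_self_of_apply_eq_self h0 n
      exact h0 n
    · rintro ⟨v, hv⟩
      refine Subtype.ext (Subtype.ext ?_)
      have h3 := hv ⟨e, Subgroup.mem_zpowers e⟩
      exact hf v v.2 (congrArg Subtype.val h3)
  rw [h2] at h1
  exact (Nat.modEq_iff_dvd' (Nat.card_pos)).1 h1.symm

/-- **the eigenvalues.** `dim V = 6`, `|K| % 3 = 2` -/
theorem main (hn : Module.finrank K V = 6) (hq : Nat.card K % 3 = 2) (hw3 : ∀ v, w (w (w v)) = v)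
    (hz3 : ∀ v, z (z (z v)) = v) (hz1 : z ≠ 1)
    (hwz : ∀ v, w (z v) = z (w v)) (hyz : ∀ v, y (z v) = z (y v)) (hy : ∀ v, y (w v) = w (z (y v))) :
    (∀ v, z v = v → v = 0) ∧ Nat.card {v : V // w v = v} = Nat.card K ^ 2 := by
  have h3 : (3 : K) ≠ 0 := by
    intro h0
    -- otherwise `3 ∣ |K|`
    have hc : ringChar K = 3 := by
      have h1 : ringChar K ∣ 3 := ringChar.dvd (by exact_mod_cast h0)
      have : Nontrivial K := inferInstance
      rcases (Nat.dvd_prime (by norm_num : Nat.Prime 3)).1 h1 with h2 | h2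
      · exact absurd h2 CharP.ringChar_ne_one
      · exact h2
    have := Fintype.ofFinite K
    obtain ⟨n, -, hn⟩ := FiniteField.card K (ringChar K)
    rw [hc, ← Nat.card_eq_fintype_card] at hn
    have h5 : 3 ∣ Nat.card K := by rw [hn]; exact dvd_pow_self 3 n.ne_zero
    omega
  have : Module.Finite K V := Module.Finite.of_finite
  set q := Nat.card K with hqd
  have hq1 : 1 < q := Finite.one_lt_card
  have hV : Nat.card V = q ^ 6 := by rw [Module.natCard_eq_pow_finrank (K := K), hn]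
  have hWc := card_WW h3 hw3 hz3 hwz hyz hy
  have hA : Nat.card (AA z w) = q ^ Module.finrank K (AA z w) := Module.natCard_eq_pow_finrank
  set c := Module.finrank K (AA z w) with hc
  have hW : Nat.card (WW z) = q ^ Module.finrank K (WW z) := Module.natCard_eq_pow_finrank
  have hle : Module.finrank K (WW z) ≤ 6 := hn ▸ Submodule.finrank_le _
  have hW3 : Module.finrank K (WW z) = 3 * c := by
    rw [hW, hA, ← pow_mul] at hWc
    have := Nat.pow_right_injective hq1 hWc
    omega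
  -- parity
  have hdvd := three_dvd (AA z w) hz3 (by
    rintro v ⟨h1, h2⟩
    refine ⟨?_, by rw [hwz, h2]⟩
    rw [← map_add, ← map_add, h1, map_zero]) (fun v hv h => eq_zero_of_fixed h3 hv.1 h)
  rw [hA] at hdvd
  have heven : c = 0 ∨ c = 2 := by
    have hc2 : c ≤ 2 := by omega
    rcases Nat.lt_or_ge c 1 with h | h
    · left; omega
    · rcases Nat.lt_or_ge c 2 with h' | h'
      · exfalso
        have : c = 1 := by omega
        rw [this, pow_one] at hdvd
        omega
      · right; omega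
  have hWne : ∃ v, v ∈ WW z ∧ v ≠ 0 := by
    by_contra hcon
    push Not at hcon
    apply hz1
    ext v
    have h1 : v - z v ∈ WW z := by
      rw [mem_WW, map_sub, map_sub, hz3]; abel
    have h2 := hcon _ h1
    exact (sub_eq_zero.1 h2).symm
  have hc2 : c = 2 := by
    rcases heven with h0 | h2
    · exfalso
      obtain ⟨v, hv, hv0⟩ := hWne
      rw [h0] at hW3
      have h4 : WW z = ⊥ := Submodule.finrank_eq_zero.1 hW3
      rw [h4] at hv
      exact hv0 ((Submodule.mem_bot K).1 hv)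
    · exact h2
  have htop : WW z = ⊤ := Submodule.eq_top_of_finrank_eq (by rw [hW3, hc2, hn])
  have hall : ∀ v : V, v + z v + z (z v) = 0 := fun v => mem_WW.1 (htop ▸ Submodule.mem_top)
  refine ⟨fun v hv => eq_zero_of_fixed h3 (hall v) hv, ?_⟩
  rw [hc2] at hA
  rw [← hA]
  exact Nat.card_congr (Equiv.subtypeEquivRight (fun v => ⟨fun h => ⟨hall v, h⟩, fun h => h.2⟩))

end

end Cfsg.Agent.H597.HT6
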