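import Cfsg.Agent.ClassicalGeometry.PSUAutSylow
import Cfsg.Agent.S0280
import Cfsg.Agent.S0285
import Cfsg.Agent.S0815

/-!
# `U3(3)`: 364 subgroups of order 3, Sylow 3-subgroups non-abelian of order 27
-/

set_option autoImplicit false

namespace Cfsg.Agent.H597.HT6

open Cfsg Cfsg.Agent.LieClassical.HermBasic Cfsg.Agent.LieClassical.HermSiegel
  Cfsg.Agent.LieClassical.HermGen Cfsg.Agent.LieClassical.SUBasic Matrix
  Cfsg.Agent.ClassicalGeometry.PSUAutBasic

variable {F : Type*} [Field F] [Fintype F]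

theorem card_psu33 (hF : Fintype.card F = 3 ^ 2) : Nat.card (PSU 3 F 3) = 6048 := by
  have h1 := S0280.result (F := F) hF 3 (by norm_num)
  generalize Nat.card (Cfsg.PSU 3 F 3) = N at h1 ⊢
  norm_num [Finset.prod_range_succ, Nat.even_iff] at h1
  omega

theorem card_aut33 (hF : Fintype.card F = 3 ^ 2) : Nat.card (MulAut (PSU 3 F 3)) = 12096 := by
  have hp3 : Fact (Nat.Prime 3) := ⟨by norm_num⟩
  have h1 := S0815.result (F := F) 3 1 (by norm_num) (q := 3) (by norm_num) hF 3 le_rfl (by norm_num)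
  rw [h1, card_psu33 hF]
  norm_num

theorem center_triv (hF : Fintype.card F = 3 ^ 2) {z : SU 3 F 3} (hz : z ∈ Subgroup.center (SU 3 F 3)) : z = 1 := by
  obtain ⟨c, hc0, hc4, hc⟩ := exists_scalar_of_mem_center hF le_rfl hz
  have hm : mat z = Matrix.diagonal (fun _ => c) := by
    apply Matrix.ext_of_mulVec_single
    intro i
    have h1 := hc (Pi.single i 1)
    rw [act_def] at h1
    rw [h1]
    funext j
    rw [Matrix.mulVec_diagonal]
    rfl
  have hdet : (mat z).det = 1 := (z : Matrix.SpecialLinearGroup (Fin 3) F).2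
  rw [hm, Matrix.det_diagonal, Fin.prod_univ_three] at hdet
  have hc1 : c = 1 := by
    have h1 : c * c ^ 3 = 1 := hc4
    have h2 : c ^ 3 = 1 := by rw [← hdet]; ring
    rw [h2, mul_one] at h1
    exact h1
  refine ext_act fun v => ?_
  rw [hc, hc1, one_smul, act_one]

theorem pr_inj (hF : Fintype.card F = 3 ^ 2) : Function.Injective (pr 3 F 3) := by
  rw [injective_iff_map_eq_one]
  intro a ha
  exact center_triv hF (pr_eq_one_iff.1 ha)

/-- `SU ≃ PSU` -/
noncomputable def eSU (hF : Fintype.card F = 3 ^ 2) : SU 3 F 3 ≃* PSU 3 F 3 :=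
  MulEquiv.ofBijective (pr 3 F 3) ⟨pr_inj hF, pr_surjective⟩

theorem card_su33 (hF : Fintype.card F = 3 ^ 2) : Nat.card (SU 3 F 3) = 6048 := by
  rw [Nat.card_congr (eSU hF).toEquiv, card_psu33 hF]

/-- non-zero isotropic vectors -/
def Iso (F : Type*) [Field F] [Fintype F] : Type _ := {v : Fin 3 → F // v ≠ 0 ∧ hermForm 3 F 3 v v = 0}

noncomputable instance : Fintype (Iso F) := Fintype.ofFinite {v : Fin 3 → F // v ≠ 0 ∧ hermForm 3 F 3 v v = 0}

theorem card_Iso (hF : Fintype.card F = 3 ^ 2) : Nat.card (Iso F) = 224 := by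
  classical
  have h1 := S0285.result (F := F) hF 3
  rw [if_neg (by decide)] at h1
  have h2 : Nat.card (Iso F) + 1 = Nat.card {v : Fin 3 → F // hermForm 3 F 3 v v = 0} := by
    rw [Iso, Nat.card_eq_fintype_card, Nat.card_eq_fintype_card, Fintype.card_subtype, Fintype.card_subtype]
    have h3 : (Finset.univ.filter (fun v : Fin 3 → F => v ≠ 0 ∧ hermForm 3 F 3 v v = 0)) =
        (Finset.univ.filter (fun v : Fin 3 → F => hermForm 3 F 3 v v = 0)).erase 0 := by
      ext v; simp
    rw [h3, Finset.card_erase_of_mem (by simp [herm_zero_left])]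
    refine Nat.sub_add_cancel (Finset.card_pos.2 ⟨0, by simp [herm_zero_left]⟩)
  rw [h1] at h2
  generalize Nat.card (Iso F) = N at h2 ⊢
  norm_num at h2
  omega

instance : MulAction (SU 3 F 3) (Iso F) where
  smul g v := ⟨act g v.1, by
    refine ⟨fun h => v.2.1 ?_, by rw [herm_act]; exact v.2.2⟩
    rw [act_eq_iff, act_zero] at h
    exact h⟩
  one_smul v := Subtype.ext (act_one _)
  mul_smul g h v := Subtype.ext (act_mul _ _ _)

theorem smul_val (g : SU 3 F 3) (v : Iso F) : (g • v).1 = act g v.1 := rfl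

theorem card_stab (hF : Fintype.card F = 3 ^ 2) (v : Iso F) :
    Nat.card (MulAction.stabilizer (SU 3 F 3) v) = 27 := by
  have h1 : MulAction.orbit (SU 3 F 3) v = Set.univ := by
    ext w
    simp only [Set.mem_univ, iff_true]
    obtain ⟨g, -, hg⟩ := exists_map_iso hF le_rfl le_rfl (mem_coordSub_top v.1) (mem_coordSub_top w.1)
      v.2.1 w.2.1 v.2.2 w.2.2
    exact ⟨g, Subtype.ext hg⟩
  have h2 := Nat.card_congr (MulAction.orbitEquivQuotientStabilizer (SU 3 F 3) v)
  have h3 := Subgroup.card_eq_card_quotient_mul_card_subgroup (MulAction.stabilizer (SU 3 F 3) v)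
  rw [← h2, h1, Nat.card_congr (Equiv.Set.univ (Iso F)), card_Iso hF, card_su33 hF] at h3
  omega

theorem char_three (hF : Fintype.card F = 3 ^ 2) : CharP F 3 := by
  obtain ⟨p, hp⟩ := CharP.exists F
  have hpp : Fact p.Prime := ⟨CharP.char_is_prime F p⟩
  obtain ⟨k, hk⟩ := exists_card_eq (F := F) p
  have h1 : p ∣ 3 ^ 2 := by
    rw [← hF, hk]
    apply dvd_pow_self
    rintro rfl
    rw [hk] at hF
    norm_num at hF
  have h2 := (Nat.prime_dvd_prime_iff_eq hpp.out (by norm_num : Nat.Prime 3)).1 (hpp.out.dvd_of_dvd_pow h1)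
  rw [← h2]
  exact hp

theorem exists_fixed_iso (hF : Fintype.card F = 3 ^ 2) {S : Subgroup (SU 3 F 3)} (hS : IsPGroup 3 S) :
    ∃ v : Iso F, ∀ g ∈ S, g • v = v := by
  have := char_three hF
  have h3 : Fact (Nat.Prime 3) := ⟨by norm_num⟩
  obtain ⟨u, hu0, hu, hfix⟩ := ClassicalGeometry.PSUAutSylow.exists_fixed 3 hF (by norm_num) hS
  exact ⟨⟨u, hu0, hu⟩, fun g hg => Subtype.ext (hfix g hg)⟩

/-- at most 728 elements of order 3 -/
theorem card_three (hF : Fintype.card F = 3 ^ 2) : Nat.card {g : SU 3 F 3 // g ≠ 1 ∧ g ^ 3 = 1} ≤ 728 := by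
  classical
  have h3 : Fact (Nat.Prime 3) := ⟨by norm_num⟩
  have hfin : Finite (SU 3 F 3) := Nat.finite_of_card_ne_zero (by rw [card_su33 hF]; norm_num)
  let _ : Fintype (SU 3 F 3) := Fintype.ofFinite _
  let T := {x : SU 3 F 3 × Iso F // x.1 ≠ 1 ∧ x.1 ^ 3 = 1 ∧ x.1 • x.2 = x.2}
  let _ : Fintype T := Fintype.ofFinite _
  -- upper bound
  have hup : Nat.card T ≤ 224 * 26 := by
    let f : T → Σ v : Iso F, {g : MulAction.stabilizer (SU 3 F 3) v // g ≠ 1} := fun x =>
      ⟨x.1.2, ⟨⟨x.1.1, x.2.2.2⟩, fun h => x.2.1 (congrArg Subtype.val h)⟩⟩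
    have hf : Function.Injective f := by
      rintro ⟨⟨g, v⟩, h1, h2, h3⟩ ⟨⟨g', v'⟩, h1', h2', h3'⟩ hx
      have e1 : v = v' := (Sigma.mk.inj_iff.1 hx).1
      subst e1
      have e2 := eq_of_heq (Sigma.mk.inj_iff.1 hx).2
      have e3 : g = g' := congrArg (fun t : {g : MulAction.stabilizer (SU 3 F 3) v // g ≠ 1} =>
        ((t : MulAction.stabilizer (SU 3 F 3) v) : SU 3 F 3)) e2
      subst e3
      rfl
    refine (Nat.card_le_card_of_injective f hf).trans ?_
    rw [Nat.card_sigma]
    have h4 : ∀ v : Iso F, Nat.card {g : MulAction.stabilizer (SU 3 F 3) v // g ≠ 1} = 26 := by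
      intro v
      let _ : Fintype (MulAction.stabilizer (SU 3 F 3) v) := Fintype.ofFinite _
      have h5 : Nat.card {g : MulAction.stabilizer (SU 3 F 3) v // g ≠ 1} + 1 = 27 := by
        rw [← card_stab hF v, Nat.card_eq_fintype_card, Nat.card_eq_fintype_card, Fintype.card_subtype_compl,
          Fintype.card_subtype_eq]
        exact Nat.sub_add_cancel Fintype.card_pos
      omega
    simp only [h4, Finset.sum_const, Finset.card_univ, smul_eq_mul]
    rw [← Nat.card_eq_fintype_card, card_Iso hF]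
  -- lower bound
  have hlo : 8 * Nat.card {g : SU 3 F 3 // g ≠ 1 ∧ g ^ 3 = 1} ≤ Nat.card T := by
    have hv : ∀ g : {g : SU 3 F 3 // g ≠ 1 ∧ g ^ 3 = 1}, ∃ v : Iso F, g.1 • v = v := by
      rintro ⟨g, h1, h2⟩
      obtain ⟨v, hv⟩ := exists_fixed_iso hF (S := Subgroup.zpowers g) (by
        refine IsPGroup.of_card (n := 1) ?_
        rw [Nat.card_zpowers, orderOf_eq_prime h2 h1, pow_one])
      exact ⟨v, hv g (Subgroup.mem_zpowers g)⟩
    choose v hv using hv
    have hU : Nat.card Fˣ = 8 := by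
      rw [Nat.card_units, Nat.card_eq_fintype_card, hF]
      norm_num
    let f : Fˣ × {g : SU 3 F 3 // g ≠ 1 ∧ g ^ 3 = 1} → T := fun x =>
      ⟨(x.2.1, ⟨(x.1 : F) • (v x.2).1, smul_ne_zero x.1.ne_zero (v x.2).2.1, by
        rw [herm_smul_left, herm_smul_right, (v x.2).2.2]; ring⟩), x.2.2.1, x.2.2.2, Subtype.ext (by
          change act x.2.1 ((x.1 : F) • (v x.2).1) = _
          rw [act_smul]
          congr 1
          exact congrArg Subtype.val (hv x.2))⟩
    have hf : Function.Injective f := by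
      rintro ⟨c, g⟩ ⟨c', g'⟩ hx
      have e1 : g = g' := Subtype.ext (congrArg (fun t : T => t.1.1) hx)
      subst e1
      have e2 : (c : F) • (v g).1 = (c' : F) • (v g).1 := congrArg (fun t : T => t.1.2.1) hx
      have e3 : (c : F) = c' := by
        by_contra hne
        have : ((c : F) - c') • (v g).1 = 0 := by rw [sub_smul, e2, sub_self]
        rcases smul_eq_zero.1 this with h | h
        · exact hne (sub_eq_zero.1 h)
        · exact (v g).2.1 h
      rw [Units.ext e3]
    have := Nat.card_le_card_of_injective f hf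
    rwa [Nat.card_prod, hU] at this
  omega

/-- subgroups of order 3 -/
theorem card_sub_three {S : Type*} [Group S] [Finite S] :
    2 * Nat.card {R : Subgroup S // Nat.card R = 3} ≤ Nat.card {g : S // g ≠ 1 ∧ g ^ 3 = 1} := by
  have h3 : Fact (Nat.Prime 3) := ⟨by norm_num⟩
  have hrep : ∀ R : {R : Subgroup S // Nat.card R = 3}, ∃ g : S, orderOf g = 3 ∧ Subgroup.zpowers g = R.1 := by
    rintro ⟨R, hR⟩
    have hcyc : IsCyclic R := isCyclic_of_prime_card hR
    obtain ⟨g, hg⟩ := hcyc.exists_generator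
    have h1 : Subgroup.zpowers (g : S) = R := by
      refine le_antisymm (Subgroup.zpowers_le.2 g.2) ?_
      intro x hx
      obtain ⟨n, hn⟩ := hg ⟨x, hx⟩
      exact ⟨n, congrArg Subtype.val hn⟩
    exact ⟨g, by rw [← Nat.card_zpowers, h1, hR], h1⟩
  choose g hg hR using hrep
  let f : Bool × {R : Subgroup S // Nat.card R = 3} → {g : S // g ≠ 1 ∧ g ^ 3 = 1} := fun x =>
    ⟨if x.1 then g x.2 else (g x.2)⁻¹, by
      have h1 : g x.2 ≠ 1 := by
        intro h
        have := hg x.2
        rw [h, orderOf_one] at this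
        omega
      have h2 : g x.2 ^ 3 = 1 := by
        have := pow_orderOf_eq_one (g x.2)
        rwa [hg x.2] at this
      split_ifs
      · exact ⟨h1, h2⟩
      · exact ⟨inv_ne_one.2 h1, by rw [inv_pow, h2, inv_one]⟩⟩
  have hf : Function.Injective f := by
    rintro ⟨b, R⟩ ⟨b', R'⟩ hx
    have hx' : (if b then g R else (g R)⁻¹) = (if b' then g R' else (g R')⁻¹) := congrArg Subtype.val hx
    have hz : ∀ (b : Bool) (R : {R : Subgroup S // Nat.card R = 3}),
        Subgroup.zpowers (if b then g R else (g R)⁻¹) = R.1 := by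
      intro b R
      cases b
      · simp only [Bool.false_eq_true, if_false]
        rw [Subgroup.zpowers_inv, hR]
      · simp only [if_true]
        exact hR R
    have e1 : R = R' := Subtype.ext (by rw [← hz b R, ← hz b' R', hx'])
    subst e1
    have hne : g R ≠ (g R)⁻¹ := by
      intro h
      have h2 : g R ^ 2 = 1 := by rw [pow_two]; exact mul_eq_one_iff_eq_inv.2 h
      have h4 := orderOf_dvd_of_pow_eq_one h2
      rw [hg R] at h4
      omega
    cases b <;> cases b' <;> simp at hx' ⊢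
    · exact hne hx'.symm
    · exact hne hx'
  have := Nat.card_le_card_of_injective f hf
  rwa [Nat.card_prod, Nat.card_eq_fintype_card (α := Bool), Fintype.card_bool] at this

/-- **364 subgroups of order 3** -/
theorem card_sub_psu (hF : Fintype.card F = 3 ^ 2) :
    Nat.card {R : Subgroup (PSU 3 F 3) // Nat.card R = 3} ≤ 364 := by
  have hfin : Finite (PSU 3 F 3) := Nat.finite_of_card_ne_zero (by rw [card_psu33 hF]; norm_num)
  have h1 := card_sub_three (S := PSU 3 F 3)
  have h2 : Nat.card {g : PSU 3 F 3 // g ≠ 1 ∧ g ^ 3 = 1} = Nat.card {g : SU 3 F 3 // g ≠ 1 ∧ g ^ 3 = 1} := by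
    refine Nat.card_congr (Equiv.subtypeEquiv (eSU hF).symm.toEquiv ?_)
    intro a
    change a ≠ 1 ∧ a ^ 3 = 1 ↔ (eSU hF).symm a ≠ 1 ∧ (eSU hF).symm a ^ 3 = 1
    rw [← map_pow]
    have h5 : ∀ b : PSU 3 F 3, (eSU hF).symm b = 1 ↔ b = 1 := fun b => by
      rw [← map_one (eSU hF).symm, (eSU hF).symm.injective.eq_iff]
    rw [Ne, Ne, h5, h5]
  have h3 := card_three hF
  omega

/-- the Sylow 3-subgroups are not abelian -/
theorem sylow_nonab (hF : Fintype.card F = 3 ^ 2) (T : Sylow 3 (PSU 3 F 3)) :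
    ∃ a ∈ T, ∃ b ∈ T, a * b ≠ b * a := by
  classical
  have hch := char_three hF
  have h3 : Fact (Nat.Prime 3) := ⟨by norm_num⟩
  obtain ⟨S, hS⟩ := ClassicalGeometry.PSUAutSylow.exists_sylow_lift 3 T
  obtain ⟨u, hu0, hu, hfix⟩ := ClassicalGeometry.PSUAutSylow.exists_fixed 3 hF (by norm_num) S.isPGroup'
  have h1 := ClassicalGeometry.PSUAutSylow.cent_sylow 3 hF le_rfl S hu0 hu hfix
  by_contra hcon
  push Not at hcon
  rw [hS] at h1
  have h2 : ClassicalGeometry.PSUAutSylow.cent (T : Subgroup (PSU 3 F 3)) = T := by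
    refine inf_eq_left.2 ?_
    intro a ha
    exact Subgroup.mem_centralizer_iff.2 fun b hb => (hcon b hb a ha)
  rw [h2] at h1
  have h4 : Nat.card T = 27 := by
    have := T.card_eq_multiplicity
    rw [card_psu33 hF] at this
    have h5 : (Nat.factorization 6048) 3 = 3 := by
      rw [show (6048 : ℕ) = 3 ^ 3 * 224 by norm_num, Nat.factorization_mul (by norm_num) (by norm_num),
        Nat.Prime.factorization_pow (by norm_num)]
      simp
      exact Nat.factorization_eq_zero_of_not_dvd (by norm_num)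
    rw [h5] at this
    exact this
  -- at most three transvections
  have h6 : Nat.card ((transvG hF u hu).map (pr 3 F 3)) ≤ 3 := by
    let M := {μ : F // μ + μ ^ 3 = 0}
    have hM : Nat.card M ≤ 3 := by
      let P : Polynomial F := Polynomial.X ^ 3 + Polynomial.X
      have hP : P.natDegree = 3 := by
        change (Polynomial.X ^ 3 + Polynomial.X : Polynomial F).natDegree = 3
        compute_degree!
      have hP0 : P ≠ 0 := by
        intro h
        rw [h] at hP
        simp at hP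
      have h7 : (Finset.univ.filter (fun μ : F => μ + μ ^ 3 = 0)) ⊆ P.roots.toFinset := by
        intro μ hμ
        rw [Multiset.mem_toFinset, Polynomial.mem_roots hP0, Polynomial.IsRoot.def]
        have := (Finset.mem_filter.1 hμ).2
        simp only [P, Polynomial.eval_add, Polynomial.eval_pow, Polynomial.eval_X]
        rw [add_comm]; exact this
      rw [Nat.card_eq_fintype_card, Fintype.card_subtype]
      exact (Finset.card_le_card h7).trans ((Multiset.toFinset_card_le _).trans (hP ▸ P.card_roots'))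
    have hsurj : Function.Surjective (fun μ : M => (⟨pr 3 F 3 (transv hF u hu μ.1 μ.2),
        ⟨_, ⟨μ.1, μ.2, rfl⟩, rfl⟩⟩ : ((transvG hF u hu).map (pr 3 F 3)))) := by
      rintro ⟨_, ⟨_, ⟨μ, hμ, rfl⟩, rfl⟩⟩
      exact ⟨⟨μ, hμ⟩, rfl⟩
    exact (Nat.card_le_card_of_surjective _ hsurj).trans hM
  have h8 : Nat.card T = Nat.card ((transvG hF u hu).map (pr 3 F 3)) := by
    rw [h1]
  omega

end Cfsg.Agent.H597.HT6
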